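import Groth.Agent.FlatModB.QuasiFlat

/-!
# Quasi-flat morphisms locally of finite presentation are universally open
-/

set_option autoImplicit false
universe u

open CategoryTheory CategoryTheory.Limits AlgebraicGeometry TensorProduct

attribute [local instance] Algebra.TensorProduct.rightAlgebra

namespace Groth.Agent.QFlatOpen

variable {A B : Type u} [CommRing A] [CommRing B] [Algebra A B]

/-- A fully supported finite module flat over the base stays so after base change. -/
theorem hasGoingDown_baseChange (M : Type u) [AddCommGroup M] [Module B M] [Module A M] [IsScalarTower A B M]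
    [Module.Finite B M] [Module.Flat A M] (hsupp : ∀ P : PrimeSpectrum B, P ∈ Module.support B M)
    (A' : Type u) [CommRing A'] [Algebra A A'] : Algebra.HasGoingDown A' (A' ⊗[A] B) := by
  let B' := A' ⊗[A] B
  let M' := B' ⊗[B] M
  haveI : Module.Flat A' M' :=
    Module.Flat.of_linearEquiv (Algebra.IsPushout.cancelBaseChange A A' B B' M)
  have hsupp' : ∀ Q : PrimeSpectrum B', Q ∈ Module.support B' M' := by
    intro Q
    let P : Ideal B := Q.asIdeal.comap (algebraMap B B')
    haveI : P.IsPrime := Ideal.IsPrime.comap _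
    letI : Algebra P.ResidueField Q.asIdeal.ResidueField :=
      (Ideal.ResidueField.map P Q.asIdeal (algebraMap B B') rfl).toAlgebra
    haveI : IsScalarTower B P.ResidueField Q.asIdeal.ResidueField :=
      IsScalarTower.of_algebraMap_eq fun x => by
        rw [RingHom.algebraMap_toAlgebra, Ideal.ResidueField.map_algebraMap, ← IsScalarTower.algebraMap_apply]
    rw [Module.mem_support_iff_nontrivial_residueField_tensorProduct]
    haveI : Nontrivial (P.ResidueField ⊗[B] M) :=
      (Module.mem_support_iff_nontrivial_residueField_tensorProduct ⟨P, inferInstance⟩).mp (hsupp _)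
    haveI : Nontrivial (Q.asIdeal.ResidueField ⊗[P.ResidueField] (P.ResidueField ⊗[B] M)) :=
      Module.FaithfullyFlat.lTensor_nontrivial P.ResidueField Q.asIdeal.ResidueField _
    exact ((TensorProduct.AlgebraTensorModule.cancelBaseChange B P.ResidueField Q.asIdeal.ResidueField Q.asIdeal.ResidueField M).trans
      (TensorProduct.AlgebraTensorModule.cancelBaseChange B B' Q.asIdeal.ResidueField Q.asIdeal.ResidueField M).symm).injective.nontrivial
  refine ⟨fun {p} hp Q hQ hpQ => ?_⟩
  obtain ⟨Q₀, hle, hQ₀⟩ := FlatModB.exists_prime_le_of_flat (A := A') (B := B') M' ⟨Q, hQ⟩ (hsupp' _) ⟨p, hp⟩ (le_of_lt hpQ)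
  exact ⟨Q₀.asIdeal, hle, Q₀.isPrime, ⟨(congrArg PrimeSpectrum.asIdeal hQ₀).symm⟩⟩

/-- Openness of a base change can be tested on affine covers of the new base. -/
theorem isOpenMap_fst_of_affine {Z : Scheme.{u}} {A₀ : CommRingCat.{u}} (f : Z ⟶ Spec A₀)
    (h : ∀ (R : CommRingCat.{u}) (φ : A₀ ⟶ R), topologically IsOpenMap (pullback.fst (Spec.map φ) f))
    {T : Scheme.{u}} (g : T ⟶ Spec A₀) : topologically IsOpenMap (pullback.fst g f) := by
  rw [IsZariskiLocalAtTarget.iff_of_openCover (P := topologically IsOpenMap) T.affineOpenCover.openCover]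
  intro i
  let c := T.affineOpenCover.f i
  let φ := Spec.preimage (c ≫ g)
  have h1 : IsPullback (pullback.snd (pullback.fst g f) c) (pullback.fst (pullback.fst g f) c ≫ pullback.snd g f)
      (Spec.map φ) f := by
    rw [Spec.map_preimage]
    exact (IsPullback.of_hasPullback (pullback.fst g f) c).flip.paste_vert (IsPullback.of_hasPullback g f)
  change topologically IsOpenMap (pullback.snd (pullback.fst g f) c)
  rw [← h1.isoPullback_hom_fst, MorphismProperty.cancel_left_of_respectsIso (P := topologically IsOpenMap)]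
  exact h _ φ

theorem isOpenMap_fst_spec [Algebra.FinitePresentation A B] (M : Type u) [AddCommGroup M] [Module B M] [Module A M]
    [IsScalarTower A B M] [Module.Finite B M] [Module.Flat A M]
    (hsupp : ∀ P : PrimeSpectrum B, P ∈ Module.support B M) (R : CommRingCat.{u}) (φ : CommRingCat.of A ⟶ R) :
    topologically IsOpenMap (pullback.fst (Spec.map φ) (Spec.map (CommRingCat.ofHom (algebraMap A B)))) := by
  obtain ⟨φ, rfl⟩ : ∃ ψ, CommRingCat.ofHom ψ = φ := ⟨φ.hom, rfl⟩
  letI := φ.toAlgebra
  haveI := hasGoingDown_baseChange (A := A) (B := B) M hsupp R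
  have h3 : pullback.fst (Spec.map (CommRingCat.ofHom (algebraMap A R))) (Spec.map (CommRingCat.ofHom (algebraMap A B))) =
      (pullbackSpecIso A R B).hom ≫ Spec.map (CommRingCat.ofHom (algebraMap R (R ⊗[A] B))) :=
    (pullbackSpecIso_hom_fst A R B).symm
  change topologically IsOpenMap (pullback.fst (Spec.map (CommRingCat.ofHom (algebraMap A R))) _)
  rw [h3, MorphismProperty.cancel_left_of_respectsIso (P := topologically IsOpenMap)]
  exact PrimeSpectrum.isOpenMap_comap_of_hasGoingDown_of_finitePresentation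

/-- Ring maps with a fully supported flat finite module are universally open. -/
theorem universallyOpen_spec [Algebra.FinitePresentation A B] (M : Type u) [AddCommGroup M] [Module B M] [Module A M]
    [IsScalarTower A B M] [Module.Finite B M] [Module.Flat A M]
    (hsupp : ∀ P : PrimeSpectrum B, P ∈ Module.support B M) :
    UniversallyOpen (Spec.map (CommRingCat.ofHom (algebraMap A B))) := by
  exact ⟨MorphismProperty.universally_mk' _ _ fun {T} g _ => isOpenMap_fst_of_affine _ (fun R φ =>
    isOpenMap_fst_spec M hsupp R φ) g⟩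

theorem universallyOpen {X Y : Scheme.{u}} (f : X ⟶ Y) (hf : FDesc.IsQuasiFlat f)
    [LocallyOfFinitePresentation f] : UniversallyOpen f := by
  obtain ⟨M, hM, hflat, hsupp⟩ := hf
  haveI := HasRingHomProperty.of_isZariskiLocalAtSource_of_isZariskiLocalAtTarget.{u} @UniversallyOpen
  rw [HasRingHomProperty.iff_appLE (P := @UniversallyOpen)]
  rintro ⟨V, hV⟩ ⟨U, hU⟩ hUV
  letI : Algebra Γ(Y, V) Γ(X, U) := (f.appLE V U hUV).hom.toAlgebra
  letI := FlatModB.secModule f M U V hUV
  haveI : IsScalarTower Γ(Y, V) Γ(X, U) Γ(M, U) :=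
    ⟨fun a c m => mul_smul ((f.appLE V U hUV).hom a) c m⟩
  haveI : Module.Flat Γ(Y, V) Γ(M, U) :=
    (FlatModB.flat_sections_iff f M hM.1 hU hV hUV).2 fun z _ => hflat z
  haveI : Module.Finite Γ(X, U) Γ(M, U) := (QC.isCoh_iff_finite_sections.mp hM).2 ⟨U, hU⟩
  haveI : Algebra.FinitePresentation Γ(Y, V) Γ(X, U) := f.finitePresentation_appLE hV hU hUV
  refine universallyOpen_spec (A := Γ(Y, V)) (B := Γ(X, U)) Γ(M, U) fun P => ?_
  let x := hU.fromSpec P
  have hxU : x ∈ U := by
    have : x ∈ Set.range hU.fromSpec := ⟨P, rfl⟩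
    rwa [hU.range_fromSpec] at this
  have hP : hU.primeIdealOf ⟨x, hxU⟩ = P :=
    hU.fromSpec.isOpenEmbedding.injective (hU.fromSpec_primeIdealOf ⟨x, hxU⟩)
  letI := Module.compHom (M.presheaf.stalk x) (X.presheaf.germ U x hxU).hom
  obtain ⟨g, hg⟩ := LocFree.exists_stalkMap hU hM.1 hxU
  haveI := hg
  haveI := hsupp x
  rw [← hP]
  exact Module.mem_support_iff.mpr
    (IsLocalizedModule.iso (hU.primeIdealOf ⟨x, hxU⟩).asIdeal.primeCompl g).toEquiv.nontrivial

end Groth.Agent.QFlatOpen
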